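import Cfsg.Agent.H539.Lim.Defs

/-!
# S5242, H1: the functor `P ↦ Hom(P / A, A)` is acyclic (helper446)

`L` acts on `Ω`, `W` an orbit of length prime to `p`.  For `x ∈ Ω` the transfers of the homomorphisms
`e w x : L_w ∩ L_x → A`, `w ∈ W`, to `L_x` are combined in one formula: a *cocycle* `Φ : P → W → A'` of a group `P` acting on
`W` satisfies `Φ (u u') w = Φ u (u' w) Φ u' w`; it is determined up to a coboundary by its values on the stabilizers, so
`∏ w, Φ u w` depends only on these values (`prod_eq`), and any equivariant family of homomorphisms on the stabilizers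
extends to a cocycle (`exists_cocycle`).
-/

set_option autoImplicit false

namespace Cfsg.Agent.H446.Lim

open MulAction Cfsg.Agent.H539.Lim

universe u v

section transfer

variable {P W A : Type*} [Group P] [MulAction P W] [CommGroup A]

/-- orbit representatives -/
theorem exists_section (P W : Type*) [Group P] [MulAction P W] :
    ∃ (r : W → W) (s : W → P), (∀ w, s w • r w = w) ∧ ∀ (u : P) w, r (u • w) = r w := by
  let _ : Setoid W := orbitRel P W
  let r : W → W := fun w => (⟦w⟧ : Quotient (orbitRel P W)).out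
  have h1 : ∀ w, ∃ s : P, s • r w = w := by
    intro w
    have h2 : (orbitRel P W) w (r w) := Setoid.symm (Quotient.mk_out (s := orbitRel P W) w)
    obtain ⟨s, hs⟩ := orbitRel_apply.1 h2
    exact ⟨s, hs⟩
  choose s hs using h1
  refine ⟨r, s, hs, fun u w => ?_⟩
  have h2 : (⟦u • w⟧ : Quotient (orbitRel P W)) = ⟦w⟧ :=
    Quotient.sound (s := orbitRel P W) (orbitRel_apply.2 ⟨u, rfl⟩)
  show (⟦u • w⟧ : Quotient (orbitRel P W)).out = _
  rw [h2]

/-- An equivariant family of homomorphisms on the stabilizers extends to a cocycle. -/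
theorem exists_cocycle (f : W → P → A)
    (hmul : ∀ w u u', u • w = w → u' • w = w → f w (u * u') = f w u * f w u')
    (hconj : ∀ (l : P) w u, u • w = w → f (l • w) (l * u * l⁻¹) = f w u) :
    ∃ Φ : P → W → A, (∀ u u' w, Φ (u * u') w = Φ u (u' • w) * Φ u' w) ∧ ∀ w u, u • w = w → Φ u w = f w u := by
  obtain ⟨r, s, hs, hr⟩ := exists_section P W
  have hst : ∀ u w, ((s (u • w))⁻¹ * u * s w) • r w = r w := by
    intro u w
    rw [mul_smul, mul_smul, hs, inv_smul_eq_iff, ← hr u w, hs]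
  refine ⟨fun u w => f (r w) ((s (u • w))⁻¹ * u * s w), fun u u' w => ?_, fun w u hu => ?_⟩
  · have h1 : (s ((u * u') • w))⁻¹ * (u * u') * s w =
        ((s (u • u' • w))⁻¹ * u * s (u' • w)) * ((s (u' • w))⁻¹ * u' * s w) := by
      rw [mul_smul]
      group
    have h2 := hst u (u' • w)
    rw [hr u' w] at h2
    show f (r w) _ = f (r (u' • w)) _ * f (r w) _
    rw [h1, hmul _ _ _ h2 (hst u' w), hr u' w]
  · show f (r w) ((s (u • w))⁻¹ * u * s w) = f w u
    have h1 := hconj (s w) (r w) ((s w)⁻¹ * u * s w) (by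
      have := hst u w
      rwa [hu] at this)
    have h2 : s w * ((s w)⁻¹ * u * s w) * (s w)⁻¹ = u := by group
    rw [h2, hs] at h1
    rw [hu, h1]

/-- The product of a cocycle depends only on the values on the stabilizers. -/
theorem prod_eq [Fintype W] {Φ Φ' : P → W → A} (h : ∀ u u' w, Φ (u * u') w = Φ u (u' • w) * Φ u' w)
    (h' : ∀ u u' w, Φ' (u * u') w = Φ' u (u' • w) * Φ' u' w) (hst : ∀ w u, u • w = w → Φ u w = Φ' u w) (u : P) :
    ∏ w, Φ u w = ∏ w, Φ' u w := by
  obtain ⟨r, s, hs, hr⟩ := exists_section P W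
  let Ψ : P → W → A := fun u w => Φ u w / Φ' u w
  have hΨ : ∀ u u' w, Ψ (u * u') w = Ψ u (u' • w) * Ψ u' w := by
    intro u u' w
    simp only [Ψ, h, h']
    rw [mul_div_mul_comm]
  have hΨst : ∀ w u, u • w = w → Ψ u w = 1 := fun w u hu => by
    simp only [Ψ, hst w u hu, div_self']
  let κ : W → A := fun w => Ψ (s w) (r w)
  have key : ∀ w, Ψ u w = κ (u • w) / κ w := by
    intro w
    have e1 : Ψ (u * s w) (r w) = Ψ u w * κ w := by rw [hΨ, hs]
    have h3 : ((s (u • w))⁻¹ * u * s w) • r w = r w := by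
      rw [mul_smul, mul_smul, hs, inv_smul_eq_iff, ← hr u w, hs]
    have e2 : Ψ (u * s w) (r w) = κ (u • w) := by
      have h4 : u * s w = s (u • w) * ((s (u • w))⁻¹ * u * s w) := by group
      rw [h4, hΨ, hΨst _ _ h3, mul_one, h3]
      show _ = Ψ (s (u • w)) (r (u • w))
      rw [hr]
    rw [← e2, e1, mul_div_cancel_right]
  have h5 : ∏ w, Ψ u w = 1 := by
    rw [Finset.prod_congr rfl fun w _ => key w, Finset.prod_div_distrib]
    have h6 : ∏ w, κ (u • w) = ∏ w, κ w := Equiv.prod_comp (MulAction.toPerm u) κ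
    rw [h6, div_self']
  have h7 : (∏ w, Φ u w) / ∏ w, Φ' u w = 1 := by
    rw [← Finset.prod_div_distrib]
    exact h5
  exact div_eq_one.1 h7

end transfer

/-- an orbit of length prime to `p` -/
theorem exists_orbit {p : ℕ} [Fact p.Prime] {L : Type u} [Group L] [Finite L] {Ω : Type v} [MulAction L Ω]
    (hΩ : PSet p L Ω) : ∃ x₀ : Ω, ¬ p ∣ Nat.card (orbit L x₀) := by
  obtain ⟨S⟩ : Nonempty (Sylow p L) := inferInstance
  obtain ⟨x₀, hx₀⟩ := hΩ.exists_fix S S.2
  refine ⟨x₀, ?_⟩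
  have h1 : (S : Subgroup L) = stabilizer L x₀ := S.3 (hΩ.pgroup x₀) hx₀ |>.symm
  have h2 : Nat.card (orbit L x₀) = (S : Subgroup L).index := by
    rw [h1, Subgroup.index]
    exact Nat.card_congr (orbitEquivQuotientStabilizer L x₀)
  rw [h2]
  exact S.not_dvd_index

/-- **H1: homs are acyclic (exact cocycle).** -/
theorem hom_acyclic {p : ℕ} [Fact p.Prime] {L : Type u} [Group L] [Finite L] {Ω : Type v} [MulAction L Ω]
    [Finite Ω] (hΩ : PSet p L Ω) (A : Subgroup L) (hA : A ≤ Subgroup.center L) (hAp : IsPGroup p A)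
    (hAst : ∀ x : Ω, A ≤ stabilizer L x) (e : Ω → Ω → L → L)
    (he : ∀ x y, ∀ u ∈ stabilizer L x ⊓ stabilizer L y, e x y u ∈ A)
    (hmul : ∀ x y, ∀ u ∈ stabilizer L x ⊓ stabilizer L y, ∀ w ∈ stabilizer L x ⊓ stabilizer L y,
      e x y (u * w) = e x y u * e x y w)
    (heA : ∀ x y, ∀ u ∈ A, e x y u = 1)
    (heq : ∀ (l : L) x y, ∀ u ∈ stabilizer L x ⊓ stabilizer L y, e (l • x) (l • y) (l * u * l⁻¹) = e x y u)
    (hcoc : ∀ x y z, ∀ u ∈ stabilizer L x ⊓ stabilizer L y ⊓ stabilizer L z, e x y u * e y z u = e x z u) :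
    ∃ v : Ω → L → L, (∀ x, ∀ u ∈ stabilizer L x, v x u ∈ A) ∧
      (∀ x, ∀ u ∈ stabilizer L x, ∀ w ∈ stabilizer L x, v x (u * w) = v x u * v x w) ∧
      (∀ x, ∀ u ∈ A, v x u = 1) ∧
      (∀ (l : L) x, ∀ u ∈ stabilizer L x, v (l • x) (l * u * l⁻¹) = v x u) ∧
      ∀ x y, ∀ u ∈ stabilizer L x ⊓ stabilizer L y, e x y u * v x u = v y u := by
  classical
  let _ : CommGroup A :=
    { (inferInstance : Group A) with
      mul_comm := fun a b => Subtype.ext ((Subgroup.mem_center_iff.1 (hA b.2)) a.1) }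
  obtain ⟨x₀, hx₀⟩ := exists_orbit hΩ
  let _ : Fintype (orbit L x₀) := Fintype.ofFinite _
  -- the inverse of the length of the orbit
  obtain ⟨m, hm⟩ : ∃ m : ℕ, ∀ a : A, (a ^ Nat.card (orbit L x₀)) ^ m = a := by
    obtain ⟨k, hk⟩ := IsPGroup.iff_card.1 hAp
    have hcop : Nat.Coprime (Nat.card (orbit L x₀)) (Nat.card A) := by
      rw [hk]
      exact ((Nat.Prime.coprime_iff_not_dvd Fact.out).2 hx₀).symm.pow_right k
    rcases Nat.lt_or_ge 1 (Nat.card A) with h1 | h1
    · obtain ⟨m, -, hm⟩ := Nat.exists_mul_mod_eq_one_of_coprime hcop h1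
      refine ⟨m, fun a => ?_⟩
      rw [← pow_mul, ← pow_mod_natCard, hm, pow_one]
    · refine ⟨1, fun a => ?_⟩
      have h2 : Subsingleton A := by
        rw [← Finite.card_le_one_iff_subsingleton]
        exact h1
      exact Subsingleton.elim _ _
  -- the cocycles
  let f : ∀ x : Ω, orbit L x₀ → stabilizer L x → A := fun x w u =>
    if h : (u : L) ∈ stabilizer L (w : Ω) then ⟨e w x u, he w x u ⟨h, u.2⟩⟩ else 1
  have hmem : ∀ (x : Ω) (w : orbit L x₀) (u : stabilizer L x), u • w = w → (u : L) ∈ stabilizer L (w : Ω) := by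
    intro x w u h
    rw [mem_stabilizer_iff]
    exact congrArg Subtype.val h
  have hfv : ∀ (x : Ω) (w : orbit L x₀) (u : stabilizer L x), u • w = w → ((f x w u : A) : L) = e w x u := by
    intro x w u h
    simp only [f, dif_pos (hmem x w u h)]
  have hex : ∀ x : Ω, ∃ Φ : stabilizer L x → orbit L x₀ → A, (∀ u u' w, Φ (u * u') w = Φ u (u' • w) * Φ u' w) ∧
      ∀ w u, u • w = w → Φ u w = f x w u := by
    intro x
    refine exists_cocycle (f x) (fun w u u' hu hu' => ?_) (fun l w u hu => ?_)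
    · apply Subtype.ext
      have h1 : (u * u') • w = w := by rw [mul_smul, hu', hu]
      rw [Subgroup.coe_mul, hfv _ _ _ h1, hfv _ _ _ hu, hfv _ _ _ hu', Subgroup.coe_mul]
      exact hmul _ _ _ ⟨hmem x w u hu, u.2⟩ _ ⟨hmem x w u' hu', u'.2⟩
    · apply Subtype.ext
      have h1 : (l * u * l⁻¹) • l • w = l • w := by rw [mul_smul, mul_smul, inv_smul_smul, hu]
      rw [hfv _ _ _ h1, hfv _ _ _ hu]
      have h2 := heq (l : L) (w : Ω) x u ⟨hmem x w u hu, u.2⟩
      have h3 : (l : L) • x = x := mem_stabilizer_iff.1 l.2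
      rw [h3] at h2
      exact h2
  choose Φ hΦ1 hΦ2 using hex
  let F : ∀ x : Ω, stabilizer L x → A := fun x u => (∏ w, Φ x u w) ^ m
  have hFmul : ∀ x u u', F x (u * u') = F x u * F x u' := by
    intro x u u'
    simp only [F]
    rw [← mul_pow]
    congr 1
    rw [Finset.prod_congr rfl fun w _ => hΦ1 x u u' w, Finset.prod_mul_distrib]
    congr 1
    exact Equiv.prod_comp (MulAction.toPerm u') (Φ x u)
  let V : Ω → L → L := fun x u => if h : u ∈ stabilizer L x then ((F x ⟨u, h⟩ : A) : L) else 1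
  have hV : ∀ x u (h : u ∈ stabilizer L x), V x u = ((F x ⟨u, h⟩ : A) : L) := fun x u h => by
    simp only [V, dif_pos h]
  refine ⟨V, fun x u hu => ?_, fun x u hu w hw => ?_, fun x u hu => ?_, fun l x u hu => ?_, fun x y u hu => ?_⟩
  · rw [hV x u hu]
    exact (F x ⟨u, hu⟩).2
  · rw [hV x u hu, hV x w hw, hV x _ (mul_mem hu hw), ← Subgroup.coe_mul, ← hFmul]
    rfl
  · have hux := hAst x hu
    rw [hV x u hux]
    have h1 : ∀ w, Φ x ⟨u, hux⟩ w = 1 := by
      intro w
      have h2 : (⟨u, hux⟩ : stabilizer L x) • w = w := Subtype.ext (mem_stabilizer_iff.1 (hAst (w : Ω) hu))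
      rw [hΦ2 x w _ h2]
      apply Subtype.ext
      rw [hfv _ _ _ h2]
      exact heA _ _ u hu
    simp only [F]
    rw [Finset.prod_congr rfl fun w _ => h1 w, Finset.prod_const_one, one_pow]
    rfl
  · -- equivariance
    have hlu : l * u * l⁻¹ ∈ stabilizer L (l • x) := by
      rw [mem_stabilizer_iff] at hu ⊢
      rw [mul_smul, mul_smul, inv_smul_smul, hu]
    rw [hV _ _ hlu, hV _ _ hu]
    congr 1
    simp only [F]
    congr 1
    -- the transported cocycle
    let ψ : stabilizer L x → stabilizer L (l • x) := fun u => ⟨l * u * l⁻¹, by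
      rw [mem_stabilizer_iff, mul_smul, mul_smul, inv_smul_smul]
      exact congrArg (l • ·) (mem_stabilizer_iff.1 u.2)⟩
    have h1 : ∏ w, Φ (l • x) ⟨l * u * l⁻¹, hlu⟩ w = ∏ w, Φ (l • x) (ψ ⟨u, hu⟩) (l • w) :=
      (Equiv.prod_comp (MulAction.toPerm l) (Φ (l • x) ⟨l * u * l⁻¹, hlu⟩)).symm
    rw [h1]
    refine prod_eq (Φ := fun u w => Φ (l • x) (ψ u) (l • w)) (fun u u' w => ?_) (hΦ1 x) (fun w u hu => ?_) ⟨u, hu⟩
    · have h2 : ψ (u * u') = ψ u * ψ u' := by
        apply Subtype.ext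
        show l * ((u : L) * (u' : L)) * l⁻¹ = (l * u * l⁻¹) * (l * u' * l⁻¹)
        group
      have h3 : ψ u' • l • w = l • u' • w := by
        apply Subtype.ext
        show (l * (u' : L) * l⁻¹) • l • (w : Ω) = l • (u' : L) • (w : Ω)
        rw [mul_smul, mul_smul, inv_smul_smul]
      show Φ (l • x) (ψ (u * u')) (l • w) = Φ (l • x) (ψ u) (l • u' • w) * Φ (l • x) (ψ u') (l • w)
      rw [h2, hΦ1, h3]
    · have h3 : ψ u • l • w = l • w := by
        apply Subtype.ext
        show (l * (u : L) * l⁻¹) • l • (w : Ω) = l • (w : Ω)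
        rw [mul_smul, mul_smul, inv_smul_smul]
        exact congrArg (l • ·) (congrArg Subtype.val hu)
      show Φ (l • x) (ψ u) (l • w) = Φ x u w
      rw [hΦ2 _ _ _ h3, hΦ2 _ _ _ hu]
      apply Subtype.ext
      rw [hfv _ _ _ h3, hfv _ _ _ hu]
      exact heq l (w : Ω) x u ⟨hmem x w u hu, u.2⟩
  · -- the coboundary
    obtain ⟨hux, huy⟩ := hu
    rw [hV _ _ hux, hV _ _ huy]
    let E : ↥(stabilizer L x ⊓ stabilizer L y) → A := fun u => ⟨e x y u, he x y u u.2⟩
    have hE : ∀ u u', E (u * u') = E u * E u' := fun u u' => Subtype.ext (hmul x y u u.2 u' u'.2)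
    let i : ↥(stabilizer L x ⊓ stabilizer L y) → stabilizer L x := fun u => ⟨u, u.2.1⟩
    let j : ↥(stabilizer L x ⊓ stabilizer L y) → stabilizer L y := fun u => ⟨u, u.2.2⟩
    have h1 : ∏ w, Φ y (j ⟨u, ⟨hux, huy⟩⟩) w = ∏ w, (E ⟨u, ⟨hux, huy⟩⟩ * Φ x (i ⟨u, ⟨hux, huy⟩⟩) w) := by
      refine prod_eq (Φ := fun u w => Φ y (j u) w) (Φ' := fun u w => E u * Φ x (i u) w) (fun u u' w => ?_)
        (fun u u' w => ?_) (fun w u hu => ?_) ⟨u, ⟨hux, huy⟩⟩
      · exact hΦ1 y (j u) (j u') w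
      · show E (u * u') * Φ x (i u * i u') w = E u * Φ x (i u) (u' • w) * (E u' * Φ x (i u') w)
        rw [hE, hΦ1]
        have h3 : i u' • w = u' • w := rfl
        rw [h3, mul_mul_mul_comm]
      · have hj : j u • w = w := hu
        have hi : i u • w = w := hu
        show Φ y (j u) w = E u * Φ x (i u) w
        rw [hΦ2 _ _ _ hj, hΦ2 _ _ _ hi]
        apply Subtype.ext
        rw [Subgroup.coe_mul, hfv _ _ _ hj, hfv _ _ _ hi]
        have h4 := hcoc (w : Ω) x y u ⟨⟨hmem x w (i u) hi, u.2.1⟩, u.2.2⟩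
        show e w y u = e x y u * e w x u
        rw [← h4]
        exact ((Subgroup.mem_center_iff.1 (hA (he (w : Ω) x u ⟨hmem x w (i u) hi, u.2.1⟩))) _).symm
    rw [Finset.prod_mul_distrib, Finset.prod_const, Finset.card_univ, ← Nat.card_eq_fintype_card] at h1
    have h2 : F y ⟨u, huy⟩ = E ⟨u, ⟨hux, huy⟩⟩ * F x ⟨u, hux⟩ := by
      show (∏ w, Φ y (j ⟨u, ⟨hux, huy⟩⟩) w) ^ m = _
      rw [h1, mul_pow, hm]
    rw [h2]
    rfl

end Cfsg.Agent.H446.Lim
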